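import Groth.Agent.L27.IndEtale
import Groth.Prelude.Def_EtRam
import Mathlib.RingTheory.Unramified.LocalRing
import Mathlib.RingTheory.Unramified.Field
import Mathlib.FieldTheory.SeparableClosure
import Mathlib.RingTheory.Filtration
import Mathlib.RingTheory.Etale.Basic
import Mathlib.RingTheory.TensorProduct.Finite

/-!
Ind-étale extensions of a discrete valuation ring: separability of the fraction fields and
unramifiedness of composita.
-/

set_option autoImplicit false
set_option linter.style.haveILetI false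

universe u

open TensorProduct IsLocalRing

namespace Groth.L06.SolHensel

/-- Finitely many elements of an ind-étale algebra come from one étale algebra. -/
theorem exists_stage {A A' : Type u} [CommRing A] [CommRing A'] [Algebra A A'] (hind : EtPBC.IsIndEtale A A')
    (S : Finset A') :
    ∃ (E : Type u) (_ : CommRing E) (_ : Algebra A E) (β : E →ₐ[A] A'), Algebra.Etale A E ∧
      ∀ a ∈ S, a ∈ β.range := by
  obtain ⟨E, i1, i2, α, β, hE, hc⟩ := (Groth.L27.IndEtale.isIndEtale_iff_exists_factor A A').1 hind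
    (MvPolynomial ↥S A) (MvPolynomial.aeval fun i => (i : A'))
  refine ⟨E, i1, i2, β, hE, fun a ha => ⟨α (MvPolynomial.X ⟨a, ha⟩), ?_⟩⟩
  show β (α _) = a
  rw [← AlgHom.comp_apply, hc, MvPolynomial.aeval_X]

/-- Values of an étale algebra over a field in an extension field are separable. -/
theorem isSeparable_of_etale {K T L : Type u} [Field K] [CommRing T] [Algebra K T] [Algebra.Etale K T] [Field L]
    [Algebra K L] (Ψ : T →ₐ[K] L) (y : L) (hy : y ∈ Ψ.range) : IsSeparable K y := by
  haveI : Algebra.FormallyUnramified K T := inferInstance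
  haveI : Module.Finite K T := Algebra.FormallyUnramified.finite_of_free K T
  haveI : Module.Finite K Ψ.range :=
    Module.Finite.of_surjective Ψ.rangeRestrict.toLinearMap Ψ.rangeRestrict_surjective
  obtain ⟨z, rfl⟩ := hy
  let F : IntermediateField K L :=
    Ψ.range.toIntermediateField' (isField_of_isIntegral_of_isField' (R := K) (Field.toIsField K))
  have hF : ∀ t, Ψ t ∈ F := fun t => ⟨t, rfl⟩
  let Ψ' : T →ₐ[K] F := Ψ.codRestrict F.toSubalgebra hF
  have hΨ' : Function.Surjective Ψ' := by
    rintro ⟨w, t, rfl⟩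
    exact ⟨t, rfl⟩
  haveI : Algebra.FormallyUnramified K F := Algebra.FormallyUnramified.of_surjective Ψ' hΨ'
  haveI : Algebra.EssFiniteType K F := Algebra.EssFiniteType.of_surjective Ψ' hΨ'
  haveI : Algebra.IsSeparable K F := Algebra.FormallyUnramified.isSeparable K F
  have h := (Algebra.IsSeparable.isSeparable K (⟨Ψ z, hF z⟩ : F)).map F.val Subtype.val_injective
  rw [IntermediateField.coe_val] at h
  exact h

/-- The fraction field of an ind-étale domain is separable algebraic. -/
theorem isSeparable_fractionRing {A A' K K' : Type u} [CommRing A] [IsDomain A] [CommRing A'] [IsDomain A']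
    [Field K] [Field K'] [Algebra A K] [IsFractionRing A K] [Algebra A' K'] [IsFractionRing A' K']
    [Algebra A A'] [Algebra A K'] [IsScalarTower A A' K'] [Algebra K K'] [IsScalarTower A K K']
    (hind : EtPBC.IsIndEtale A A') : Algebra.IsSeparable K K' := by
  have key : ∀ x : A', IsSeparable K (algebraMap A' K' x) := by
    intro x
    obtain ⟨E, _, _, β, hE, hx⟩ := exists_stage hind {x}
    obtain ⟨e, he⟩ := hx x (Finset.mem_singleton_self x)
    haveI := hE
    refine isSeparable_of_etale (Algebra.TensorProduct.lift (Algebra.ofId K K')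
      ((IsScalarTower.toAlgHom A A' K').comp β) fun _ _ => Commute.all _ _ : K ⊗[A] E →ₐ[K] K') _ ⟨1 ⊗ₜ e, ?_⟩
    show Algebra.TensorProduct.lift _ _ _ _ = _
    simp only [Algebra.TensorProduct.lift_tmul, map_one, one_mul, AlgHom.comp_apply]
    rw [show β e = x from he]
    rfl
  refine ⟨fun z => ?_⟩
  obtain ⟨a, b, -, rfl⟩ := IsFractionRing.div_surjective (A := A') z
  exact mem_separableClosure_iff.1 (div_mem (mem_separableClosure_iff.2 (key a)) (mem_separableClosure_iff.2 (key b)))

/-- In a Noetherian local ring with principal maximal ideal a nonzero element is a unit times a power. -/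
theorem exists_unit_mul_pow {O : Type u} [CommRing O] [IsLocalRing O] [IsNoetherianRing O] {t : O}
    (ht : maximalIdeal O = Ideal.span {t}) {b : O} (hb : b ≠ 0) : ∃ (n : ℕ) (v : O), IsUnit v ∧ b = v * t ^ n := by
  classical
  have hex : ∃ n, ¬ t ^ n ∣ b := by
    by_contra h
    push Not at h
    refine hb ?_
    have hb' : b ∈ ⨅ n, maximalIdeal O ^ n := Submodule.mem_iInf _ |>.2 fun n => by
      rw [ht, Ideal.span_singleton_pow, Ideal.mem_span_singleton]; exact h n
    rwa [Ideal.iInf_pow_eq_bot_of_isLocalRing _ (maximalIdeal.isMaximal O).ne_top, Ideal.mem_bot] at hb'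
  obtain ⟨n, hn⟩ : ∃ n, Nat.find hex = n + 1 := ⟨Nat.find hex - 1, by
    have : Nat.find hex ≠ 0 := fun h => Nat.find_spec hex (by rw [h, pow_zero]; exact one_dvd b)
    omega⟩
  obtain ⟨v, rfl⟩ : t ^ n ∣ b := not_not.1 (Nat.find_min hex (by omega))
  refine ⟨n, v, ?_, mul_comm _ _⟩
  by_contra hv
  have hv' : v ∈ maximalIdeal O := hv
  rw [ht, Ideal.mem_span_singleton] at hv'
  refine Nat.find_spec hex ?_
  rw [hn, pow_succ]
  exact mul_dvd_mul_left _ hv'

/-- Quotients of elements of an unramified local algebra lie in its image. -/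
theorem mem_range_of_mul_eq {V O W : Type u} [CommRing V] [IsDomain V] [IsDiscreteValuationRing V] [CommRing O]
    [IsLocalRing O] [IsNoetherianRing O] [Algebra V O] [IsLocalHom (algebraMap V O)]
    [Algebra.FormallyUnramified V O] [Algebra.EssFiniteType V O] [CommRing W] [IsDomain W] [Algebra V W]
    [IsLocalHom (algebraMap V W)] (hinj : Function.Injective (algebraMap V W)) (μ : O →ₐ[V] W) {x : W} {a b : O}
    (hb : μ b ≠ 0) (heq : x * μ b = μ a) : x ∈ μ.range := by
  by_cases ha : μ a = 0
  · rw [ha, mul_eq_zero, or_iff_left hb] at heq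
    exact heq ▸ zero_mem _
  obtain ⟨π, hπ⟩ := IsDiscreteValuationRing.exists_irreducible V
  have ht : maximalIdeal O = Ideal.span {algebraMap V O π} := by
    rw [← Algebra.FormallyUnramified.map_maximalIdeal (R := V) (S := O), hπ.maximalIdeal_eq, Ideal.map_span,
      Set.image_singleton]
  have htμ : μ (algebraMap V O π) = algebraMap V W π := μ.commutes π
  have htu : ¬ IsUnit (algebraMap V W π) := fun h => hπ.not_isUnit ((isUnit_map_iff (algebraMap V W) π).1 h)
  have ht0 : algebraMap V W π ≠ 0 := fun h => hπ.ne_zero (hinj (h.trans (map_zero _).symm))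
  obtain ⟨n, v, hv, hbv⟩ := exists_unit_mul_pow ht (b := b) (fun h => hb (by rw [h, map_zero]))
  obtain ⟨m, v', hv', hav⟩ := exists_unit_mul_pow ht (b := a) (fun h => ha (by rw [h, map_zero]))
  rw [hav, hbv, map_mul, map_mul, map_pow, map_pow, htμ] at heq
  rcases le_or_gt n m with hnm | hnm
  · obtain ⟨k, rfl⟩ := Nat.exists_eq_add_of_le hnm
    refine ⟨↑hv.unit⁻¹ * v' * algebraMap V O π ^ k, ?_⟩
    show μ _ = x
    have h1 : x * μ v = μ v' * algebraMap V W π ^ k :=
      mul_right_cancel₀ (pow_ne_zero n ht0) (by linear_combination heq)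
    have h2 : μ (↑hv.unit⁻¹ : O) * μ v = 1 := by rw [← map_mul, IsUnit.val_inv_mul, map_one]
    rw [map_mul, map_mul, map_pow, htμ]
    linear_combination (-μ (↑hv.unit⁻¹ : O)) * h1 + x * h2
  · obtain ⟨k, rfl⟩ := Nat.exists_eq_add_of_lt hnm
    exfalso
    have h1 : x * μ v * algebraMap V W π ^ (k + 1) = μ v' :=
      mul_right_cancel₀ (pow_ne_zero m ht0) (by linear_combination heq)
    refine htu (isUnit_of_dvd_unit ⟨x * μ v * algebraMap V W π ^ k, ?_⟩ (hv'.map μ))
    linear_combination -h1

set_option maxHeartbeats 1000000 in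
open EtRam in
/-- Composita with ind-étale extensions are unramified with separable residue extension. -/
theorem unramified_compositum {A A' N N' : Type u} [CommRing A] [CommRing A'] [Algebra A A']
    (hind : EtPBC.IsIndEtale A A') [Field N] [Field N'] (f : N →+* N') (g : A' →+* N') (a₀ : A →+* N)
    (ha₀ : ∀ a, f (a₀ a) = g (algebraMap A A' a)) (W : ValuationSubring N') (hgW : ∀ x, g x ∈ W)
    (hgen : Subfield.closure (Set.range f ∪ Set.range g) = ⊤) [IsDiscreteValuationRing (W.comap f)] :
    (letI : Algebra (W.comap f) W := (inclOfComap W f).toAlgebra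
     IsWeaklyUnramified (W.comap f) W) ∧
    (letI : Algebra (ResidueField (W.comap f)) (ResidueField W) := (ResidueField.map (inclOfComap W f)).toAlgebra
     Algebra.IsSeparable (ResidueField (W.comap f)) (ResidueField W)) := by
  classical
  let V := W.comap f
  letI : Algebra V W := (inclOfComap W f).toAlgebra
  haveI : IsLocalHom (algebraMap V W) := isLocalHom_inclOfComap W f
  letI : Algebra A V := (a₀.codRestrict V.toSubring fun a => by
    show f (a₀ a) ∈ W
    rw [ha₀]; exact hgW _).toAlgebra
  let gW : A' →+* W := g.codRestrict W.toSubring hgW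
  letI : Algebra A W := (gW.comp (algebraMap A A')).toAlgebra
  haveI : IsScalarTower A V W := IsScalarTower.of_algebraMap_eq fun a => Subtype.ext (ha₀ a).symm
  let gA : A' →ₐ[A] W := { gW with commutes' := fun a => rfl }
  let Γ : V ⊗[A] A' →ₐ[V] W := Algebra.TensorProduct.lift (Algebra.ofId V W) gA fun _ _ => Commute.all _ _
  let Γ' : V ⊗[A] A' →+* N' := W.subtype.comp Γ.toRingHom
  have hfrac : ∀ z : N', ∃ r s, z = Γ' r / Γ' s := by
    intro z
    let S' : Set N' := (f '' (V : Set N)) ∪ Set.range g
    have hz : z ∈ Subfield.closure S' := by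
      refine (Subfield.closure_le.2 ?_) (hgen.ge (Subfield.mem_top z))
      rintro _ (⟨n, rfl⟩ | ⟨x, rfl⟩)
      · rcases V.mem_or_inv_mem n with h | h
        · exact Subfield.subset_closure (Or.inl ⟨n, h, rfl⟩)
        · have := inv_mem (Subfield.subset_closure (Or.inl ⟨n⁻¹, h, rfl⟩) : f n⁻¹ ∈ Subfield.closure S')
          rwa [map_inv₀, inv_inv] at this
      · exact Subfield.subset_closure (Or.inr ⟨x, rfl⟩)
    obtain ⟨y, hy, w, hw, rfl⟩ := Subfield.mem_closure_iff.1 hz
    have hle : Subring.closure S' ≤ Γ'.range := Subring.closure_le.2 (by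
      rintro _ (⟨n, hn, rfl⟩ | ⟨x, rfl⟩)
      · exact ⟨(⟨n, hn⟩ : V) ⊗ₜ 1, by simp [Γ', Γ]; rfl⟩
      · exact ⟨1 ⊗ₜ x, by simp [Γ', Γ, gA, gW]⟩)
    obtain ⟨r, rfl⟩ := hle hy
    obtain ⟨s, rfl⟩ := hle hw
    exact ⟨r, s, rfl⟩
  have key : ∀ x : W, ∃ (O : Type u) (_ : CommRing O) (_ : IsLocalRing O) (_ : Algebra V O)
      (_ : IsLocalHom (algebraMap V O)) (_ : Algebra.FormallyUnramified V O) (_ : Algebra.EssFiniteType V O)
      (μ : O →ₐ[V] W), x ∈ μ.range := by
    intro x
    obtain ⟨r, s, hrs⟩ := hfrac (x : N')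
    have hspan : ∀ z : V ⊗[A] A', ∃ S : Finset A', z ∈ Submodule.span V ((fun a => (1 : V) ⊗ₜ[A] a) '' ↑S) := by
      intro z
      induction z with
      | zero => exact ⟨∅, zero_mem _⟩
      | tmul v a =>
        refine ⟨{a}, ?_⟩
        rw [show v ⊗ₜ[A] a = v • ((1 : V) ⊗ₜ[A] a) by rw [TensorProduct.smul_tmul', smul_eq_mul, mul_one]]
        exact Submodule.smul_mem _ _ (Submodule.subset_span ⟨a, Finset.mem_singleton_self a, rfl⟩)
      | add z w hz hw =>
        obtain ⟨S, hS⟩ := hz
        obtain ⟨T, hT⟩ := hw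
        exact ⟨S ∪ T, add_mem (Submodule.span_mono (Set.image_mono (Finset.coe_subset.2 Finset.subset_union_left)) hS)
          (Submodule.span_mono (Set.image_mono (Finset.coe_subset.2 Finset.subset_union_right)) hT)⟩
    obtain ⟨S, hS⟩ := hspan r
    obtain ⟨T, hT⟩ := hspan s
    obtain ⟨E, _, _, β, hE, hβ⟩ := exists_stage hind (S ∪ T)
    haveI := hE
    let δ : V ⊗[A] E →ₐ[V] V ⊗[A] A' := Algebra.TensorProduct.map (AlgHom.id V V) β
    have hδ : ∀ U : Finset A', (∀ a ∈ U, a ∈ S ∪ T) → ∀ z ∈ Submodule.span V ((fun a => (1 : V) ⊗ₜ[A] a) '' ↑U),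
        z ∈ δ.range := by
      intro U hU z hz
      refine (Submodule.span_le (p := Subalgebra.toSubmodule δ.range)).2 ?_ hz
      rintro _ ⟨a, ha, rfl⟩
      obtain ⟨e, he⟩ := hβ a (hU a ha)
      exact ⟨1 ⊗ₜ e, by
        show δ ((1 : V) ⊗ₜ[A] e) = (1 : V) ⊗ₜ[A] a
        rw [← show β e = a from he]
        rfl⟩
    obtain ⟨r', hr'⟩ := hδ S (fun a ha => Finset.mem_union_left _ ha) r hS
    obtain ⟨s', hs'⟩ := hδ T (fun a ha => Finset.mem_union_right _ ha) s hT
    let θ : V ⊗[A] E →ₐ[V] W := Γ.comp δ
    have hr'' : (θ r' : N') = Γ' r := congrArg Γ' hr'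
    have hs'' : (θ s' : N') = Γ' s := congrArg Γ' hs'
    let q : Ideal (V ⊗[A] E) := (maximalIdeal W).comap θ
    haveI : q.IsPrime := Ideal.comap_isPrime _ _
    let O := Localization.AtPrime q
    have hθu : ∀ y : q.primeCompl, IsUnit (θ y) := fun y => by
      by_contra h
      exact y.2 h
    let μ : O →ₐ[V] W := IsLocalization.liftAlgHom (M := q.primeCompl) hθu
    have hμ : ∀ y, μ (algebraMap _ O y) = θ y := fun y => IsLocalization.lift_eq hθu y
    haveI : IsLocalHom (algebraMap V O) := ⟨fun v hv => by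
      have h := hv.map μ
      rw [μ.commutes] at h
      exact (isUnit_map_iff (algebraMap V W) v).1 h⟩
    haveI : Algebra.FormallyUnramified (V ⊗[A] E) O :=
      Algebra.FormallyUnramified.of_isLocalization q.primeCompl
    haveI : Algebra.FormallyUnramified V O := Algebra.FormallyUnramified.comp V (V ⊗[A] E) O
    haveI : Algebra.EssFiniteType (V ⊗[A] E) O := Algebra.EssFiniteType.of_isLocalization O q.primeCompl
    haveI : Algebra.EssFiniteType V O := Algebra.EssFiniteType.comp V (V ⊗[A] E) O
    refine ⟨O, inferInstance, inferInstance, inferInstance, inferInstance, inferInstance, inferInstance, μ, ?_⟩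
    haveI : IsNoetherianRing (V ⊗[A] E) := Algebra.FiniteType.isNoetherianRing V _
    haveI : IsNoetherianRing O := IsLocalization.isNoetherianRing q.primeCompl O inferInstance
    have hx : (x : N') = (μ (algebraMap _ O r') : N') / (μ (algebraMap _ O s') : N') := by
      rw [hμ, hμ, hr'', hs'', hrs]
    by_cases hb : μ (algebraMap _ O s') = 0
    · refine ⟨0, Subtype.ext ?_⟩
      show ((μ 0 : W) : N') = x
      rw [hx, hb, map_zero]
      simp
    have hinjW : Function.Injective (algebraMap V W) := fun v w h =>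
      Subtype.ext (f.injective (congrArg Subtype.val h))
    have heq : x * μ (algebraMap _ O s') = μ (algebraMap _ O r') := Subtype.ext (by
      show (x : N') * (μ (algebraMap _ O s') : N') = (μ (algebraMap _ O r') : N')
      rw [hx, div_mul_cancel₀]
      exact fun h => hb (Subtype.ext h))
    have h := @mem_range_of_mul_eq V O W _ _ _ _ _ _ _ _ _ _ _ _ _ _ hinjW μ x _ _ hb heq
    exact h
  have hVW : IsLocalHom (algebraMap V W) := inferInstance
  have hmap : (maximalIdeal V).map (algebraMap V W) ≤ maximalIdeal W :=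
    ((local_hom_TFAE (algebraMap V W)).out 0 2).mp hVW
  constructor
  · show IsWeaklyUnramified V W
    refine le_antisymm hmap fun x hx => ?_
    obtain ⟨O, _, _, _, _, _, _, μ, c, rfl⟩ := key x
    have hc : c ∈ maximalIdeal O := fun h => hx (h.map μ)
    rw [← Algebra.FormallyUnramified.map_maximalIdeal (R := V) (S := O)] at hc
    have := Ideal.mem_map_of_mem μ.toRingHom hc
    rwa [Ideal.map_map, show μ.toRingHom.comp (algebraMap V O) = algebraMap V W from RingHom.ext μ.commutes] at this
  · letI : Algebra (ResidueField V) (ResidueField W) := (ResidueField.map (inclOfComap W f)).toAlgebra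
    refine ⟨fun z => ?_⟩
    obtain ⟨x, rfl⟩ := residue_surjective z
    obtain ⟨O, _, _, _, _, _, _, μ, c, rfl⟩ := key x
    haveI : IsLocalHom μ.toRingHom := ⟨fun y hy => by
      by_contra h
      have h' : y ∈ maximalIdeal O := h
      rw [← Algebra.FormallyUnramified.map_maximalIdeal (R := V) (S := O)] at h'
      have h2 := Ideal.mem_map_of_mem μ.toRingHom h'
      rw [Ideal.map_map, show μ.toRingHom.comp (algebraMap V O) = algebraMap V W from RingHom.ext μ.commutes] at h2
      exact hmap h2 (hy : IsUnit (μ.toRingHom y))⟩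
    let μr : ResidueField O →ₐ[ResidueField V] ResidueField W :=
      { ResidueField.map μ.toRingHom with
        commutes' := fun r => by
          obtain ⟨v, rfl⟩ := residue_surjective r
          exact congrArg (residue W) (μ.commutes v) }
    have h := (Algebra.IsSeparable.isSeparable (ResidueField V) (residue O c)).map μr μr.toRingHom.injective
    have e : μr (residue O c) = residue W (μ c) := rfl
    rw [e] at h
    exact h

end Groth.L06.SolHensel
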