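import Groth.Agent.L05.Henselization.StrictUniq
import Groth.Agent.S2748
import Groth.Agent.S0540
import Groth.Agent.S0539
import Groth.Agent.S0538
import Groth.Agent.L03.GeomReduced2
import Groth.Agent.L06.SolHensel.Unramified
import Groth.Prelude.Def_EtRam
import Mathlib.RingTheory.DiscreteValuationRing.TFAE
import Mathlib.FieldTheory.IsSepClosed

/-!
Strict henselizations of discrete valuation rings and their functoriality; generalities on dominance.
-/

set_option autoImplicit false
set_option linter.style.haveILetI false

universe u

open IsLocalRing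

namespace Groth.L06.SolHensel

/-- A strict henselization of a discrete valuation ring is an ind-étale extension of discrete valuation rings. -/
theorem exists_strict_extension (A : Type u) [CommRing A] [IsDomain A] [IsDiscreteValuationRing A] :
    ∃ (A' : Type u) (_ : CommRing A') (_ : IsDomain A') (_ : IsDiscreteValuationRing A') (_ : Algebra A A')
      (_ : IsLocalHom (algebraMap A A')),
      Function.Injective (algebraMap A A') ∧ Hensel.IsStrictHenselization A A' ∧ EtPBC.IsIndEtale A A' := by
  obtain ⟨R, _, _, _, _, hR⟩ := Groth.L05.Henselization.exists_isStrictHenselization A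
  haveI := hR
  haveI : IsDomain R := ((Groth.Agent.S2748.result A R).mpr ⟨inferInstance, inferInstance⟩).1
  haveI : IsNoetherianRing R := (Groth.Agent.S0540.result A R).mp inferInstance
  haveI : Module.FaithfullyFlat A R := Groth.Agent.S0539.result A R
  obtain ⟨ϖ, hϖ⟩ := IsDiscreteValuationRing.exists_irreducible A
  have hmax : maximalIdeal R = Ideal.span {algebraMap A R ϖ} := by
    rw [← Groth.Agent.S0538.result A R, hϖ.maximalIdeal_eq, Ideal.map_span, Set.image_singleton]
  have hinj : Function.Injective (algebraMap A R) := FaithfulSMul.algebraMap_injective A R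
  have hne : algebraMap A R ϖ ≠ 0 := fun h => hϖ.ne_zero (hinj (h.trans (map_zero _).symm))
  have hnf : ¬IsField R := fun hF => by
    rw [IsLocalRing.isField_iff_maximalIdeal_eq, hmax, Ideal.span_singleton_eq_bot] at hF
    exact hne hF
  have hd : IsDiscreteValuationRing R := ((IsDiscreteValuationRing.TFAE R hnf).out 0 4 rfl rfl).mpr ⟨⟨_, hmax⟩⟩
  exact ⟨R, inferInstance, inferInstance, hd, inferInstance, inferInstance, hinj, hR,
    Groth.L05.Henselization.isIndEtale_of_isStrictHenselization A R⟩

/-- Functoriality of strict henselization for an injective local homomorphism. -/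
theorem exists_square {A A' B B' : Type u} [CommRing A] [IsDomain A] [IsDiscreteValuationRing A]
    [CommRing A'] [IsDomain A'] [IsDiscreteValuationRing A'] [Algebra A A'] [IsLocalHom (algebraMap A A')]
    [hA : Hensel.IsStrictHenselization A A'] [CommRing B] [IsLocalRing B] [Algebra A B]
    [IsLocalHom (algebraMap A B)]
    (hinj : Function.Injective (algebraMap A B)) [CommRing B'] [IsDomain B'] [IsLocalRing B'] [Algebra B B']
    [IsLocalHom (algebraMap B B')] [hB : Hensel.IsStrictHenselization B B']
    (hinjB : Function.Injective (algebraMap B B')) :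
    ∃ g : A' →+* B', g.comp (algebraMap A A') = (algebraMap B B').comp (algebraMap A B) ∧ IsLocalHom g ∧
      Function.Injective g := by
  haveI := hB.henselian
  let f : A →+* B' := (algebraMap B B').comp (algebraMap A B)
  haveI : IsLocalHom f := RingHom.isLocalHom_comp _ _
  letI : Algebra (ResidueField A) (ResidueField B') := (ResidueField.map f).toAlgebra
  haveI : IsSepClosed (ResidueField B') := hB.isSepClosure.sep_closed
  haveI : Algebra.IsSeparable (ResidueField A) (ResidueField A') := hA.isSepClosure.separable
  let τ : ResidueField A' →ₐ[ResidueField A] ResidueField B' := IsSepClosed.lift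
  obtain ⟨g, ⟨hg, hres⟩, -⟩ := hA.universal B' f τ.toRingHom (RingHom.ext τ.commutes)
  have hloc : IsLocalHom g := ⟨fun x hx => by
    by_contra h
    have h0 : residue A' x = 0 := (residue_eq_zero_iff x).mpr h
    have h1 := hres x
    rw [h0, map_zero] at h1
    exact (residue_eq_zero_iff _).mp h1 hx⟩
  refine ⟨g, hg, hloc, ?_⟩
  rw [RingHom.injective_iff_ker_eq_bot]
  by_contra hk
  haveI : (RingHom.ker g).IsPrime := RingHom.ker_isPrime g
  obtain ⟨π, hπ⟩ := IsDiscreteValuationRing.exists_irreducible A
  have hmem : algebraMap A A' π ∈ RingHom.ker g := by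
    rw [IsLocalRing.eq_maximalIdeal (Ideal.IsPrime.isMaximal ‹_› hk)]
    exact fun h => hπ.not_isUnit ((isUnit_map_iff (algebraMap A A') π).1 h)
  have h2 := RingHom.congr_fun hg π
  rw [RingHom.comp_apply, hmem] at h2
  refine hπ.ne_zero (hinjB.comp hinj ?_)
  simpa [f, Function.comp] using h2.symm

/-- A separable algebraic field extension is geometrically reduced. -/
theorem isGeometricallyReduced_of_isSeparable (k E : Type u) [Field k] [Field E] [Algebra k E]
    [Algebra.IsSeparable k E] : Algebra.IsGeometricallyReduced k E := by
  refine Algebra.IsGeometricallyReduced.of_forall_fg fun S hS => ?_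
  haveI : Algebra.IsIntegral k S := ⟨fun x => isIntegral_algHom_iff S.val Subtype.val_injective |>.1
    (Algebra.IsIntegral.isIntegral (x : E))⟩
  haveI : Algebra.FiniteType k S := S.fg_iff_finiteType.1 hS
  haveI : Module.Finite k S := Algebra.IsIntegral.finite
  letI : Field S := (isField_of_isIntegral_of_isField' (R := k) (Field.toIsField k)).toField
  haveI : Algebra.IsSeparable k S := Algebra.IsSeparable.of_algHom k E S.val
  rw [Algebra.isGeometricallyReduced_field_iff]
  exact Groth.L03.GeomReduced2.isReduced_tensorProduct_of_isSeparable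

open EtRam in
/-- Dominance pulls back along field maps. -/
theorem dominates_comap {A C F M : Type u} [CommRing A] [IsLocalRing A] [CommRing C] [IsLocalRing C] [Field F]
    [Field M] {h : C →+* M} {W : ValuationSubring M} (hW : Dominates C h W) (f : F →+* M) (e : A →+* C)
    [IsLocalHom e] (g : A →+* F) (hc : ∀ a, f (g a) = h (e a)) : Dominates A g (W.comap f) := by
  have hmem : ∀ a, g a ∈ W.comap f := fun a => by
    show f (g a) ∈ W
    rw [hc]; exact hW.1 _
  refine ⟨hmem, fun a ha => ?_⟩
  refine ((ValuationSubring.valuation_lt_one_iff _ ⟨g a, hmem a⟩).1 ((mem_maximalIdeal _).2 fun hu => ?_))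
  have h1 := hW.2 (e a) ((mem_maximalIdeal _).2 fun h2 => (mem_maximalIdeal _).1 ha (isUnit_of_map_unit e a h2))
  have h2 := (ValuationSubring.valuation_eq_one_iff W _).1 (hu.map (inclOfComap W f))
  rw [inclOfComap_apply_coe] at h2
  simp only at h2
  rw [hc] at h2
  exact h1.ne h2

end Groth.L06.SolHensel
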