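import Groth.Agent.L06.SolHensel.Extension
import Groth.Agent.L05.SepResidueSol.Main
import Groth.Agent.L05.SolTower.Main
import Groth.Agent.L13.PseudoComplete.GeomRed
import Mathlib.FieldTheory.SplittingField.Construction
import Mathlib.FieldTheory.Extension

/-!
Solutions descend from ind-étale extensions.
-/

set_option autoImplicit false
set_option linter.style.haveILetI false

universe u

open IsLocalRing EtRam Polynomial

namespace Groth.L06.SolHensel

/-- A valuation subring of a finite extension dominating a discrete valuation ring is discrete. -/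
theorem dvr_of_dominates (A K : Type u) {F : Type u} [CommRing A] [IsDomain A] [IsDiscreteValuationRing A] [Field K]
    [Algebra A K] [IsFractionRing A K] [Field F] [Algebra K F] [FiniteDimensional K F] (W : ValuationSubring F)
    (hW : Dominates A ((algebraMap K F).comp (algebraMap A K)) W) : IsDiscreteValuationRing W := by
  letI : Algebra A F := ((algebraMap K F).comp (algebraMap A K)).toAlgebra
  haveI : IsScalarTower A K F := IsScalarTower.of_algebraMap_eq fun _ => rfl
  letI : Algebra A W := (((algebraMap K F).comp (algebraMap A K)).codRestrict W.toSubring hW.1).toAlgebra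
  haveI : IsScalarTower A W F := IsScalarTower.of_algebraMap_eq fun _ => rfl
  haveI : IsLocalHom (algebraMap A W) := Groth.L05.TameTower.isLocalHom_codRestrict _ W hW
  exact (Groth.L05.SepResidueSol.isDiscreteValuationRing_of_finite A K W).1

/-- Goodness of `W ∩ F → W` as in the definition of a solution. -/
def Good (F : Type u) [Field F] : ∀ (M : Type u) [Field M], ValuationSubring M → (F →+* M) → Prop :=
  fun _ _ W f =>
    letI : Algebra (W.comap f) W := (inclOfComap W f).toAlgebra
    IsWeaklyUnramified (W.comap f) W ∧
      @Algebra.IsGeometricallyReduced (IsLocalRing.ResidueField (W.comap f)) (IsLocalRing.ResidueField W) _ _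
        (IsLocalRing.ResidueField.map (inclOfComap W f)).toAlgebra

/-- Goodness composes. -/
theorem Good.comp {N N' M : Type u} [Field N] [Field N'] [Field M] (W : ValuationSubring M) (f : N →+* N')
    (v : N' →+* M) (h₁ : Good N N' (W.comap v) f) (h₂ : Good N' M W v) : Good N M W (v.comp f) := by
  obtain ⟨h₁w, h₁r⟩ := h₁
  obtain ⟨h₂w, h₂r⟩ := h₂
  constructor
  · unfold IsWeaklyUnramified at h₁w h₂w ⊢
    show (maximalIdeal ((W.comap v).comap f)).map ((inclOfComap W v).comp (inclOfComap (W.comap v) f)) = _
    rw [← Ideal.map_map]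
    exact (congrArg (Ideal.map (inclOfComap W v)) h₁w).trans h₂w
  · letI a₁ : Algebra (ResidueField ((W.comap v).comap f)) (ResidueField (W.comap v)) :=
      (ResidueField.map (inclOfComap (W.comap v) f)).toAlgebra
    letI a₂ : Algebra (ResidueField (W.comap v)) (ResidueField W) := (ResidueField.map (inclOfComap W v)).toAlgebra
    letI a₃ : Algebra (ResidueField ((W.comap v).comap f)) (ResidueField W) :=
      (ResidueField.map ((inclOfComap W v).comp (inclOfComap (W.comap v) f))).toAlgebra
    haveI : IsScalarTower (ResidueField ((W.comap v).comap f)) (ResidueField (W.comap v)) (ResidueField W) :=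
      IsScalarTower.of_algebraMap_eq fun r => by
        obtain ⟨r, rfl⟩ := residue_surjective r
        rfl
    haveI : Algebra.IsGeometricallyReduced (ResidueField ((W.comap v).comap f)) (ResidueField (W.comap v)) := h₁r
    haveI : Algebra.IsGeometricallyReduced (ResidueField (W.comap v)) (ResidueField W) := h₂r
    have h := Groth.L13.PseudoComplete.isGeometricallyReduced_trans (ResidueField ((W.comap v).comap f))
      (ResidueField (W.comap v)) (ResidueField W)
    exact h

/-- A finite extension of a separable algebraic extension embeds, over any compositum, into a finite extension of the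
base: a splitting field, separable when the extension is. -/
theorem exists_normal_model (K K' K₁ : Type u) [Field K] [Field K'] [Field K₁] [Algebra K K'] [Algebra.IsSeparable K K']
    [Algebra K' K₁] [FiniteDimensional K' K₁] :
    ∃ (N : Type u) (_ : Field N) (_ : Algebra K N), FiniteDimensional K N ∧
      (Algebra.IsSeparable K' K₁ → Algebra.IsSeparable K N) ∧
      ∀ (F : Type u) [Field F] [Algebra K' F] [Algebra K F] [IsScalarTower K K' F] (f : N →ₐ[K] F),
        Nonempty (K₁ →ₐ[K'] F) := by
  classical
  letI : Algebra K K₁ := ((algebraMap K' K₁).comp (algebraMap K K')).toAlgebra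
  haveI : IsScalarTower K K' K₁ := IsScalarTower.of_algebraMap_eq fun _ => rfl
  haveI : Algebra.IsAlgebraic K K₁ := Algebra.IsAlgebraic.trans K K' K₁
  let b := Module.finBasis K' K₁
  let p : Polynomial K := ∏ i, minpoly K (b i)
  refine ⟨p.SplittingField, inferInstance, inferInstance, inferInstance, fun hs => ?_, fun F _ _ _ _ f => ?_⟩
  · haveI := hs
    haveI : Algebra.IsSeparable K K₁ := Algebra.IsSeparable.trans K K' K₁
    rw [← AlgEquiv.Algebra.isSeparable_iff (IntermediateField.topEquiv (F := K) (E := p.SplittingField))]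
    have htop : IntermediateField.adjoin K (p.rootSet p.SplittingField) = ⊤ := top_le_iff.1 fun x _ =>
      IntermediateField.algebra_adjoin_le_adjoin K _
        ((IsSplittingField.adjoin_rootSet p.SplittingField p).ge Algebra.mem_top)
    rw [← htop, IntermediateField.isSeparable_adjoin_iff_isSeparable]
    intro x hx
    rw [mem_rootSet] at hx
    obtain ⟨-, hx⟩ := hx
    rw [map_prod, Finset.prod_eq_zero_iff] at hx
    obtain ⟨i, -, hi⟩ := hx
    exact (Algebra.IsSeparable.isSeparable K (b i)).of_dvd (minpoly.dvd K x hi)
  · have hK : ∀ x ∈ Set.range b, IsIntegral K' x ∧ ((minpoly K' x).map (algebraMap K' F)).Splits := by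
      rintro _ ⟨i, rfl⟩
      refine ⟨Algebra.IsIntegral.isIntegral _, ?_⟩
      have hne : minpoly K (b i) ≠ 0 := minpoly.ne_zero (Algebra.IsIntegral.isIntegral (b i))
      have hp : p ≠ 0 := Finset.prod_ne_zero_iff.2 fun j _ => minpoly.ne_zero (Algebra.IsIntegral.isIntegral (b j))
      have h2 : ((minpoly K (b i)).map (algebraMap K p.SplittingField)).Splits :=
        (IsSplittingField.splits p.SplittingField p).of_dvd
          ((Polynomial.map_ne_zero_iff (algebraMap K p.SplittingField).injective).2 hp)
          (Polynomial.map_dvd _ (Finset.dvd_prod_of_mem _ (Finset.mem_univ i)))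
      have h1 : ((minpoly K (b i)).map ((algebraMap K' F).comp (algebraMap K K'))).Splits := by
        rw [← IsScalarTower.algebraMap_eq, ← AlgHom.comp_algebraMap f, ← Polynomial.map_map]
        exact h2.map _
      rw [← Polynomial.map_map] at h1
      refine h1.of_dvd ((Polynomial.map_ne_zero_iff (algebraMap K' F).injective).2
        ((Polynomial.map_ne_zero_iff (algebraMap K K').injective).2 hne)) ?_
      exact Polynomial.map_dvd _ (minpoly.dvd_map_of_isScalarTower K K' (b i))
    have hS : IntermediateField.adjoin K' (Set.range b) = ⊤ := by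
      refine top_le_iff.1 fun x _ => ?_
      rw [← b.sum_repr x]
      exact sum_mem fun i _ => IntermediateField.smul_mem _ (IntermediateField.subset_adjoin K' (Set.range b) ⟨i, rfl⟩)
    exact IntermediateField.nonempty_algHom_of_adjoin_splits hK hS

/-- The given solution works over any intermediate field containing a copy of it. -/
theorem good_top {A' B' K' L' K₁ N' M : Type u} [CommRing A'] [IsDomain A'] [IsDiscreteValuationRing A']
    [CommRing B'] [IsDomain B'] [IsDiscreteValuationRing B'] [Algebra A' B'] [IsLocalHom (algebraMap A' B')]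
    [Field K'] [Field L'] [Field K₁] [Field N'] [Field M] [Algebra A' K'] [IsFractionRing A' K']
    [Algebra B' L'] [IsFractionRing B' L'] [Algebra K' L'] [Algebra A' L'] [IsScalarTower A' K' L']
    [IsScalarTower A' B' L'] [Algebra K' K₁] [FiniteDimensional K' K₁] [Algebra K' N'] [FiniteDimensional K' N']
    [Algebra K' M] [Algebra L' M] [IsScalarTower K' L' M] [Algebra N' M] [IsScalarTower K' N' M]
    (hsol : IsSolution B' K' L' K₁) (φ : K₁ →ₐ[K'] N')
    (hgen : Algebra.adjoin L' (Set.range (algebraMap N' M)) = ⊤) (W : ValuationSubring M)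
    (hW : Dominates B' ((algebraMap L' M).comp (algebraMap B' L')) W) : Good N' M W (algebraMap N' M) := by
  classical
  let ι : K₁ →ₐ[K'] M := (IsScalarTower.toAlgHom K' N' M).comp φ
  let S : Set M := Set.range ι
  let M₁ : IntermediateField L' M := IntermediateField.adjoin L' S
  letI : Algebra K₁ M₁ := (ι.toRingHom.codRestrict M₁ fun y =>
    IntermediateField.subset_adjoin _ _ ⟨y, rfl⟩).toAlgebra
  haveI : IsScalarTower K' K₁ M₁ := IsScalarTower.of_algebraMap_eq fun k => Subtype.ext (ι.commutes k).symm
  have halg : ∀ y ∈ S, IsAlgebraic L' y := by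
    rintro _ ⟨y, rfl⟩
    exact (((IsIntegral.of_finite K' y).map ι).tower_top (A := L')).isAlgebraic
  haveI : FiniteDimensional L' M₁ := by
    let b := Module.finBasis K' K₁
    have hM₁ : M₁ = IntermediateField.adjoin L' (Set.range (ι ∘ b)) := by
      refine le_antisymm (IntermediateField.adjoin_le_iff.2 ?_) (IntermediateField.adjoin.mono _ _ _ ?_)
      · rintro _ ⟨y, rfl⟩
        rw [← b.sum_repr y, map_sum]
        refine sum_mem fun i _ => ?_
        rw [map_smul, Algebra.smul_def, IsScalarTower.algebraMap_apply K' L' M]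
        exact mul_mem (IntermediateField.algebraMap_mem _ _) (IntermediateField.subset_adjoin _ _ ⟨i, rfl⟩)
      · rintro _ ⟨i, rfl⟩
        exact ⟨b i, rfl⟩
    rw [hM₁]
    exact IntermediateField.finiteDimensional_adjoin fun x hx => by
      obtain ⟨i, rfl⟩ := hx
      exact ((IsIntegral.of_finite K' (b i)).map ι).tower_top
  have hgen₁ : Algebra.adjoin L' (Set.range (algebraMap K₁ M₁)) = ⊤ := by
    refine top_le_iff.mp fun z _ => ?_
    have hz : (z : M) ∈ Algebra.adjoin L' S := by
      rw [← IntermediateField.adjoin_toSubalgebra_of_isAlgebraic (fun x hx => halg x hx)]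
      exact z.2
    have hrange : Set.range (algebraMap K₁ M₁) = Subtype.val ⁻¹' S := by
      ext w
      exact ⟨fun ⟨y, hy⟩ => ⟨y, congrArg Subtype.val hy⟩, fun ⟨y, hy⟩ => ⟨y, Subtype.ext hy⟩⟩
    have himg : (Algebra.adjoin L' (Set.range (algebraMap K₁ M₁))).map M₁.val = Algebra.adjoin L' S := by
      rw [AlgHom.map_adjoin, ← Set.range_comp]
      rfl
    rw [← himg] at hz
    obtain ⟨w, hw, hwz⟩ := hz
    rwa [← Subtype.ext hwz]
  let W₁ : ValuationSubring M₁ := W.comap (algebraMap M₁ M)
  have hW₁ : Dominates B' ((algebraMap L' M₁).comp (algebraMap B' L')) W₁ :=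
    dominates_comap hW (algebraMap M₁ M) (RingHom.id B') _ fun _ => rfl
  have hgood := hsol M₁ hgen₁ W₁ hW₁
  let V₁ : ValuationSubring K₁ := W₁.comap (algebraMap K₁ M₁)
  letI : Algebra V₁ W₁ := (inclOfComap W₁ (algebraMap K₁ M₁)).toAlgebra
  haveI : IsLocalHom (algebraMap V₁ W₁) := isLocalHom_inclOfComap W₁ (algebraMap K₁ M₁)
  haveI : IsDiscreteValuationRing W₁ := dvr_of_dominates B' L' W₁ hW₁
  haveI : IsDiscreteValuationRing V₁ := dvr_of_dominates A' K' V₁
    (dominates_comap hW₁ (algebraMap K₁ M₁) (algebraMap A' B') _ fun a => by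
      show algebraMap K₁ M₁ (algebraMap K' K₁ (algebraMap A' K' a)) = algebraMap L' M₁ (algebraMap B' L' (algebraMap A' B' a))
      rw [← IsScalarTower.algebraMap_apply K' K₁ M₁, IsScalarTower.algebraMap_apply K' L' M₁,
        ← IsScalarTower.algebraMap_apply A' K' L', ← IsScalarTower.algebraMap_apply A' B' L'])
  letI : Algebra V₁ M₁ := ((algebraMap K₁ M₁).comp (algebraMap V₁ K₁)).toAlgebra
  haveI : IsScalarTower V₁ K₁ M₁ := IsScalarTower.of_algebraMap_eq fun _ => rfl
  haveI : IsScalarTower V₁ W₁ M₁ := IsScalarTower.of_algebraMap_eq fun _ => rfl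
  have hinj : Function.Injective (algebraMap V₁ W₁) := fun x y h =>
    Subtype.ext ((algebraMap K₁ M₁).injective (congrArg Subtype.val h))
  letI : Algebra K₁ N' := φ.toRingHom.toAlgebra
  haveI : IsScalarTower K' K₁ N' := IsScalarTower.of_algebraMap_eq fun k => (φ.commutes k).symm
  haveI : FiniteDimensional K₁ N' := FiniteDimensional.right K' K₁ N'
  haveI : Algebra.IsGeometricallyReduced (ResidueField V₁) (ResidueField W₁) := by
    convert hgood.2 using 1
    exact Algebra.algebra_ext _ _ fun r => rfl
  have hstep : IsSolution W₁ K₁ M₁ N' :=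
    Groth.L05.SepResidueSol.isSolution V₁ W₁ K₁ M₁ hinj hgood.1 N'
  letI : Algebra K₁ M := ι.toRingHom.toAlgebra
  haveI : IsScalarTower K₁ M₁ M := IsScalarTower.of_algebraMap_eq fun _ => rfl
  haveI : IsScalarTower K₁ N' M := IsScalarTower.of_algebraMap_eq fun _ => rfl
  have hgen' : Algebra.adjoin M₁ (Set.range (algebraMap N' M)) = ⊤ := by
    refine top_le_iff.mp fun z _ => ?_
    have hz : z ∈ Algebra.adjoin L' (Set.range (algebraMap N' M)) := hgen ▸ Algebra.mem_top
    clear ‹z ∈ ⊤›
    induction hz using Algebra.adjoin_induction with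
    | mem z hz => exact Algebra.subset_adjoin hz
    | algebraMap l =>
      rw [IsScalarTower.algebraMap_apply L' M₁ M]
      exact Subalgebra.algebraMap_mem _ _
    | add a b _ _ ha hb => exact add_mem ha hb
    | mul a b _ _ ha hb => exact mul_mem ha hb
  have hdom : Dominates W₁ ((algebraMap M₁ M).comp (algebraMap W₁ M₁)) W := by
    refine ⟨fun x => x.2, fun x hx => lt_of_le_of_ne ((W.valuation_le_one_iff _).2 x.2) fun h => ?_⟩
    exact (mem_maximalIdeal _).1 hx
      (isUnit_of_map_unit (inclOfComap W (algebraMap M₁ M)) x ((W.valuation_eq_one_iff _).2 h))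
  exact hstep M hgen' W hdom

/-- Solutions for an ind-étale extension descend. -/
theorem exists_descended_solution {A B K L A' B' K' L' : Type u} [CommRing A] [IsDomain A] [IsDiscreteValuationRing A]
    [CommRing B] [IsDomain B] [IsDiscreteValuationRing B] [Algebra A B] [IsLocalHom (algebraMap A B)]
    [Field K] [Field L] [Algebra A K] [IsFractionRing A K] [Algebra B L] [IsFractionRing B L]
    [Algebra K L] [Algebra A L] [IsScalarTower A K L] [IsScalarTower A B L]
    [CommRing A'] [IsDomain A'] [IsDiscreteValuationRing A'] [CommRing B'] [IsDomain B'] [IsDiscreteValuationRing B']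
    [Algebra A A'] [IsLocalHom (algebraMap A A')] [Algebra B B'] [IsLocalHom (algebraMap B B')] [Algebra A' B']
    [IsLocalHom (algebraMap A' B')] [Algebra A B'] [IsScalarTower A B B'] [IsScalarTower A A' B']
    [Field K'] [Field L'] [Algebra A' K'] [IsFractionRing A' K'] [Algebra B' L'] [IsFractionRing B' L']
    [Algebra K' L'] [Algebra A' L'] [IsScalarTower A' K' L'] [IsScalarTower A' B' L']
    [Algebra K K'] [Algebra A K'] [IsScalarTower A K K'] [IsScalarTower A A' K']
    [Algebra L L'] [Algebra B L'] [IsScalarTower B L L'] [IsScalarTower B B' L']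
    (hinjB : Function.Injective (algebraMap B B')) (hindA : EtPBC.IsIndEtale A A') [Algebra.IsSeparable K K']
    (K₁ : Type u) [Field K₁] [Algebra K' K₁] [FiniteDimensional K' K₁] (hsol : IsSolution B' K' L' K₁) :
    ∃ (N : Type u) (_ : Field N) (_ : Algebra K N), FiniteDimensional K N ∧
      (Algebra.IsSeparable K' K₁ → Algebra.IsSeparable K N) ∧ IsSolution B K L N := by
  classical
  letI : Algebra K L' := ((algebraMap K' L').comp (algebraMap K K')).toAlgebra
  haveI : IsScalarTower K K' L' := IsScalarTower.of_algebraMap_eq fun _ => rfl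
  haveI : IsScalarTower K L L' := IsScalarTower.of_algebraMap_eq' (IsLocalization.ringHom_ext (nonZeroDivisors A)
    (RingHom.ext fun a => by
      show algebraMap K' L' (algebraMap K K' (algebraMap A K a)) = algebraMap L L' (algebraMap K L (algebraMap A K a))
      rw [← IsScalarTower.algebraMap_apply A K K', IsScalarTower.algebraMap_apply A A' K',
        ← IsScalarTower.algebraMap_apply A' K' L', IsScalarTower.algebraMap_apply A' B' L',
        ← IsScalarTower.algebraMap_apply A A' B', ← IsScalarTower.algebraMap_apply A K L,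
        IsScalarTower.algebraMap_apply A B L, ← IsScalarTower.algebraMap_apply B L L',
        IsScalarTower.algebraMap_apply B B' L', ← IsScalarTower.algebraMap_apply A B B']))
  obtain ⟨N, _, _, hfin, hsep, hemb⟩ := exists_normal_model K K' K₁
  haveI := hfin
  refine ⟨N, inferInstance, inferInstance, hfin, hsep, ?_⟩
  refine Groth.L05.SolTower.exists_upper B B' K L L' N hinjB (Good N)
    (fun M M' _ _ W' f j h => ⟨(Groth.L05.SolTower.descend W' f j).1 h.1, (Groth.L05.SolTower.descend W' f j).2 h.2⟩) ?_
  intro M _ _ _ _ _ _ hgen W hW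
  let σ := algebraMap N M
  letI : Algebra K' M := ((algebraMap L' M).comp (algebraMap K' L')).toAlgebra
  haveI : IsScalarTower K' L' M := IsScalarTower.of_algebraMap_eq fun _ => rfl
  haveI : IsScalarTower K K' M := IsScalarTower.of_algebraMap_eq fun k => by
    rw [IsScalarTower.algebraMap_apply K L' M]
    rfl
  let b := Module.finBasis K N
  let N' : IntermediateField K' M := IntermediateField.adjoin K' (Set.range (σ ∘ b))
  haveI : FiniteDimensional K' N' := IntermediateField.finiteDimensional_adjoin fun x hx => by
    obtain ⟨i, rfl⟩ := hx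
    exact ((IsIntegral.of_finite K (b i)).map (IsScalarTower.toAlgHom K N M)).tower_top
  have hσ : ∀ x, σ x ∈ N' := fun x => by
    rw [← b.sum_repr x, map_sum]
    refine sum_mem fun i _ => ?_
    rw [Algebra.smul_def, map_mul, ← IsScalarTower.algebraMap_apply, IsScalarTower.algebraMap_apply K K' M]
    exact mul_mem (IntermediateField.algebraMap_mem _ _) (IntermediateField.subset_adjoin _ _ ⟨i, rfl⟩)
  let f : N →ₐ[K] N' := (IsScalarTower.toAlgHom K N M).codRestrict (N'.restrictScalars K).toSubalgebra hσ
  obtain ⟨φ⟩ := hemb N' f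
  letI : Algebra N N' := f.toRingHom.toAlgebra
  have hgen' : Algebra.adjoin L' (Set.range (algebraMap N' M)) = ⊤ := by
    refine top_le_iff.mp (hgen.ge.trans (Algebra.adjoin_mono ?_))
    rintro _ ⟨x, rfl⟩
    exact ⟨f x, rfl⟩
  have h₂ : Good N' M W (algebraMap N' M) := good_top (A' := A') hsol φ hgen' W hW
  let W' : ValuationSubring N' := W.comap (algebraMap N' M)
  let g : A' →+* N' := (algebraMap K' N').comp (algebraMap A' K')
  let a₀ : A →+* N := (algebraMap K N).comp (algebraMap A K)
  have ha₀ : ∀ a, f.toRingHom (a₀ a) = g (algebraMap A A' a) := fun a => by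
    show f (algebraMap K N (algebraMap A K a)) = algebraMap K' N' (algebraMap A' K' (algebraMap A A' a))
    rw [f.commutes, IsScalarTower.algebraMap_apply K K' N', ← IsScalarTower.algebraMap_apply A K K',
      ← IsScalarTower.algebraMap_apply A A' K']
  have hdomA' : Dominates A' g W' := dominates_comap hW (algebraMap N' M) (algebraMap A' B') g fun a => by
    show algebraMap L' M (algebraMap K' L' (algebraMap A' K' a)) = algebraMap L' M (algebraMap B' L' (algebraMap A' B' a))
    rw [← IsScalarTower.algebraMap_apply A' K' L', ← IsScalarTower.algebraMap_apply A' B' L']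
  haveI : IsDiscreteValuationRing (W'.comap f.toRingHom) := dvr_of_dominates A K _
    (dominates_comap hdomA' f.toRingHom (algebraMap A A') a₀ ha₀)
  have hclosure : Subfield.closure (Set.range f.toRingHom ∪ Set.range g) = ⊤ := by
    refine top_le_iff.1 ?_
    rintro ⟨z, hz⟩ -
    induction hz using IntermediateField.adjoin_induction with
    | mem z hz =>
      obtain ⟨i, rfl⟩ := hz
      exact Subfield.subset_closure (Or.inl ⟨b i, rfl⟩)
    | algebraMap k =>
      obtain ⟨x, y, -, rfl⟩ := IsFractionRing.div_surjective (A := A') k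
      have h : (algebraMap K' N' (algebraMap A' K' x / algebraMap A' K' y)) ∈
          Subfield.closure (Set.range f.toRingHom ∪ Set.range g) := by
        rw [map_div₀]
        exact div_mem (Subfield.subset_closure (Or.inr ⟨x, rfl⟩)) (Subfield.subset_closure (Or.inr ⟨y, rfl⟩))
      exact h
    | add x y hx hy h h' => exact add_mem h h'
    | inv x hx h => exact inv_mem h
    | mul x y hx hy h h' => exact mul_mem h h'
  obtain ⟨h₁w, h₁s⟩ := unramified_compositum hindA f.toRingHom g a₀ ha₀ W' hdomA'.1 hclosure
  have h₁ : Good N N' W' f.toRingHom := ⟨h₁w, by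
    letI : Algebra (ResidueField (W'.comap f.toRingHom)) (ResidueField W') :=
      (ResidueField.map (inclOfComap W' f.toRingHom)).toAlgebra
    haveI : Algebra.IsSeparable (ResidueField (W'.comap f.toRingHom)) (ResidueField W') := h₁s
    exact isGeometricallyReduced_of_isSeparable _ _⟩
  exact Good.comp W f.toRingHom (algebraMap N' M) h₁ h₂

end Groth.L06.SolHensel
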